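import Groth.Agent.TraceIntLib.Algebra
import Groth.Agent.AVAmpleLib.BcDeg
import Groth.Agent.HilbPolyLib.IntNum
import Groth.Agent.CohCmpLib.SectionPair

/-!
# The trace of an endomorphism of an abelian variety and intersection numbers
-/

set_option autoImplicit false
set_option linter.all false
set_option backward.isDefEq.respectTransparency false
set_option backward.isDefEq.respectTransparency.types false
set_option maxRecDepth 8000
set_option maxHeartbeats 1000000
set_option synthInstance.maxHeartbeats 400000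

universe u

open CategoryTheory CategoryTheory.Limits MonoidalCategory CartesianMonoidalCategory MonObj AlgebraicGeometry
open CubeConsLib AVAmpleLib
open scoped Nat

noncomputable section

namespace TraceIntLib

attribute [local instance] grpBc commBc proper_bc gi_bc

variable {k : Type u} [Field k] {A : Over (Spec (CommRingCat.of k))} [GrpObj A] [IsCommMonObj A] [IsProper A.hom]
  [GeometricallyIntegral A.hom] [IsIntegral A.left] [LocallyOfFinitePresentation A.hom] [Flat A.hom]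
  {g : ℕ} (hg : topologicalKrullDim A.left = (g : ℕ))

/-- Pullback along multiplication by two. -/
abbrev two (A : Over (Spec (CommRingCat.of k))) [GrpObj A] : PicA A.left →+ PicA A.left := pullA (𝟙 A ^ (2 : ℤ)).left

include hg in
/-- Classes which are antisymmetric do not contribute to the top self-intersection. -/
theorem top_add_antisym {s a : PicA A.left} (hs : s ∈ clRange A) (ha : a ∈ clRange A)
    (h4 : two A s = (4 : ℤ) • s) (h2 : two A a = (2 : ℤ) • a) : top A g (s + a) = top A g s := by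
  obtain ⟨T, hT, hT'⟩ := exists_topPoly hg (r := 2) (x := ![s, a]) (fun i => by fin_cases i <;> assumption)
  have hval : ∀ x y : ℤ, top A g (x • s + y • a) = MvPolynomial.eval ![(x : ℚ), (y : ℚ)] T := fun x y => by
    have := hT' ![x, y]
    simp only [Fin.sum_univ_two, Matrix.cons_val_zero, Matrix.cons_val_one] at this
    rw [this]
    congr 2
    funext i
    fin_cases i <;> simp
  have hn2 : (2 : ℤ) ≠ 0 := two_ne_zero
  haveI := isFinite_zpow A hn2
  haveI := flat_zpow A hn2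
  have key := eval_eq_of_scaling g T hT fun y => by
    have hmem : (1 : ℤ) • s + (y : ℤ) • a ∈ clRange A := add_mem (zsmul_mem hs _) (zsmul_mem ha _)
    have h := (top_pullA (𝟙 A ^ (2 : ℤ)) hg hg hmem).2
    rw [finrank_zpow A hn2 hg, map_add, map_zsmul, map_zsmul, show pullA (𝟙 A ^ (2 : ℤ)).left s = (4 : ℤ) • s from h4,
      show pullA (𝟙 A ^ (2 : ℤ)).left a = (2 : ℤ) • a from h2, smul_smul, smul_smul, hval, hval] at h
    push_cast at h
    norm_num [pow_mul] at h
    rw [mul_comm (y : ℚ) 2] at h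
    exact h
  have h1 := hval 1 1
  have h0 := hval 1 0
  rw [one_zsmul, one_zsmul] at h1
  rw [one_zsmul, zero_zsmul, add_zero] at h0
  rw [h1, h0]
  push_cast
  exact key

variable {L : A.left.Modules} (hL : PicF.IsInvertible L)

theorem two_P (f : A ⟶ A) [IsMonHom f] :
    two A (P hL f) = (3 : ℤ) • P hL f + P hL f⁻¹ ∧ two A (P hL f⁻¹) = (3 : ℤ) • P hL f⁻¹ + P hL f := by
  have h : ∀ h : A ⟶ A, P hL (h ^ (2 : ℤ)) = (3 : ℤ) • P hL h + P hL h⁻¹ := fun h => by
    rw [zpow_formula hL h 2, P_zero hL, smul_zero, add_zero]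
    norm_num
  have hf : (𝟙 A ^ (2 : ℤ)) ≫ f = f ^ (2 : ℤ) := by rw [GrpObj.zpow_comp, Category.id_comp]
  refine ⟨(pullA_P hL _ f).trans ?_, (pullA_P hL _ f⁻¹).trans ?_⟩
  · rw [hf, h]
  · rw [GrpObj.comp_inv, hf, show (f ^ (2 : ℤ))⁻¹ = (f⁻¹) ^ (2 : ℤ) from (inv_zpow f 2).symm, h, inv_inv]

include hg in
/-- The top self-intersection of the class of `α + n`. -/
theorem top_line (α : A ⟶ A) [IsMonHom α] (n : ℕ) :
    top A g (P hL (α * 𝟙 A ^ n)) =
      top A g (P hL α + (n : ℤ) • (P hL (α * 𝟙 A) - P hL α - clA hL) + ((n : ℤ) * n) • clA hL) := by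
  letI : CommGroup (A ⟶ A) := Hom.commGroup
  haveI : IsMonHom (α * 𝟙 A) := EndAV.Hom.isMonHom_toHom (EndAV.End.of α + 1 : EndAV.End A)
  let H := clA hL
  let H' := P hL (𝟙 A)⁻¹
  let D := P hL (α * 𝟙 A) - P hL α - H
  have hid : P hL (𝟙 A) = H := P_id hL
  have hD : D = P hL (α * 𝟙 A)⁻¹ - P hL α⁻¹ - H' := by
    have h := cube_field hL (α * 𝟙 A) α⁻¹ (𝟙 A)⁻¹
    rw [show α * 𝟙 A * α⁻¹ * (𝟙 A)⁻¹ = 1 by rw [mul_right_comm α (𝟙 A), mul_inv_cancel, _root_.one_mul, mul_inv_cancel],
      P_zero, show α * 𝟙 A * α⁻¹ = 𝟙 A by rw [mul_right_comm, mul_inv_cancel, _root_.one_mul],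
      mul_inv_cancel_right, ← mul_inv, hid] at h
    show P hL (α * 𝟙 A) - P hL α - H = _
    linear_combination (norm := abel) h
  have hrec : ∀ n : ℕ, (2 : ℤ) • P hL (α * 𝟙 A ^ n) =
      (2 : ℤ) • P hL α + (2 * (n : ℤ)) • (D + H) + ((n : ℤ) * n - n) • (H + H') := by
    intro n
    induction n using Nat.twoStepInduction with
    | zero => simp
    | one =>
      rw [pow_one, Nat.cast_one]
      simp only [D]
      module
    | more n h0 h1 =>
      have hc := cube_field hL (α * 𝟙 A ^ (n + 1)) (𝟙 A) (𝟙 A)⁻¹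
      rw [mul_inv_cancel_right, show α * 𝟙 A ^ (n + 1) * 𝟙 A = α * 𝟙 A ^ (n + 1 + 1) by rw [pow_succ _ (n + 1), _root_.mul_assoc],
        show α * 𝟙 A ^ (n + 1) * (𝟙 A)⁻¹ = α * 𝟙 A ^ n by rw [pow_succ, ← _root_.mul_assoc, mul_inv_cancel_right],
        mul_inv_cancel, P_zero, hid, add_zero] at hc
      have e : P hL (α * 𝟙 A ^ (n + 1 + 1)) =
          P hL (α * 𝟙 A ^ (n + 1)) + P hL (α * 𝟙 A ^ (n + 1)) + H + H' - P hL (α * 𝟙 A ^ n) := by
        rw [eq_sub_iff_add_eq]; exact hc.symm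
      rw [e, smul_sub, smul_add, smul_add, smul_add, h0, h1]
      push_cast
      module
  have hmem : ∀ f : A ⟶ A, P hL f ∈ clRange A := fun f => P_mem hL f
  have hH : H ∈ clRange A := hid ▸ hmem _
  obtain ⟨hα1, hα2⟩ := two_P hL α
  obtain ⟨hi1, hi2⟩ := two_P hL (𝟙 A)
  obtain ⟨hs1, hs2⟩ := two_P hL (α * 𝟙 A)
  rw [hid] at hi1 hi2
  have hi2' : two A H' = (3 : ℤ) • H' + H := hi2
  have hi1' : two A H = (3 : ℤ) • H + H' := hi1
  have hD4 : two A D = (4 : ℤ) • D := by
    show two A (P hL (α * 𝟙 A) - P hL α - H) = _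
    rw [map_sub, map_sub, hs1, hα1, hi1]
    calc _ = (3 : ℤ) • D + (P hL (α * 𝟙 A)⁻¹ - P hL α⁻¹ - H') := by
            show _ = (3 : ℤ) • (P hL (α * 𝟙 A) - P hL α - H) + _
            module
      _ = _ := by rw [← hD]; module
  let s : ℕ → PicA A.left := fun n =>
    (P hL α + P hL α⁻¹) + (2 * (n : ℤ)) • D + ((n : ℤ) * n) • (H + H')
  have hsmem : s n ∈ clRange A :=
    add_mem (add_mem (add_mem (hmem _) (hmem _))
      (zsmul_mem (sub_mem (sub_mem (hmem _) (hmem _)) hH) _)) (zsmul_mem (add_mem hH (hmem _)) _)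
  have hs4 : two A (s n) = (4 : ℤ) • s n := by
    simp only [s, map_add, map_zsmul, hα1, hα2, hi1', hi2', hD4]
    show _ = _
    module
  have hanti : ∀ c : ℤ, two A ((P hL α - P hL α⁻¹) + c • (H - H')) = (2 : ℤ) • ((P hL α - P hL α⁻¹) + c • (H - H')) := fun c => by
    simp only [map_add, map_sub, map_zsmul, hα1, hα2, hi1', hi2']
    show _ = _
    module
  have hamem : ∀ c : ℤ, (P hL α - P hL α⁻¹) + c • (H - H') ∈ clRange A := fun c =>
    add_mem (sub_mem (hmem _) (hmem _)) (zsmul_mem (sub_mem hH (hmem _)) _)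
  have hlin : P hL α + (n : ℤ) • D + ((n : ℤ) * n) • H ∈ clRange A :=
    add_mem (add_mem (hmem _) (zsmul_mem (sub_mem (sub_mem (hmem _) (hmem _)) hH) _)) (zsmul_mem hH _)
  have e1 : (2 : ℤ) • P hL (α * 𝟙 A ^ n) = s n + ((P hL α - P hL α⁻¹) + (n : ℤ) • (H - H')) := by
    rw [hrec n]; simp only [s]; module
  have e2 : (2 : ℤ) • (P hL α + (n : ℤ) • D + ((n : ℤ) * n) • H) =
      s n + ((P hL α - P hL α⁻¹) + ((n : ℤ) * n) • (H - H')) := by
    simp only [s]; module
  have h1 := top_zsmul hg (hmem (α * 𝟙 A ^ n)) 2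
  have h2 := top_zsmul hg hlin 2
  rw [e1, top_add_antisym hg hsmem (hamem _) hs4 (hanti _)] at h1
  rw [e2, top_add_antisym hg hsmem (hamem _) hs4 (hanti _)] at h2
  exact mul_left_cancel₀ (pow_ne_zero g (by norm_num)) (h1.symm.trans h2)

/-- The class of a tensor product of a list of line bundles. -/
theorem exists_clA_tensorList {X : Scheme.{u}} {J : Type*} (M : J → X.Modules) (hM : ∀ i, PicF.IsInvertible (M i)) :
    ∀ l : List J, ∃ h : PicF.IsInvertible (FGA.tensorList (l.map M)), clA h = (l.map fun i => clA (hM i)).sum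
  | [] => ⟨isInvertible_one X, clA_one X⟩
  | i :: l => by
    obtain ⟨h, e⟩ := exists_clA_tensorList M hM l
    refine ⟨HilbPolyLib.isInvertible_tensor (hM i) h, (clA_tensor (hM i) h).trans ?_⟩
    rw [List.map_cons, List.sum_cons, ← e]

include hg in
theorem intNum_eq_sum (M : Fin g → A.left.Modules) (hM : ∀ i, PicF.IsInvertible (M i)) :
    ((@FGA.intNum k _ A.left ⟨A.hom⟩ g g M (Coh.structureModule A.left) : ℤ) : ℚ) =
      ∑ I ∈ (Finset.univ : Finset (Fin g)).powerset, (-1 : ℚ) ^ I.card * (chi A (∑ i ∈ I, clA (hM i)) : ℚ) := by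
  letI : A.left.Over (Spec (CommRingCat.of k)) := ⟨A.hom⟩
  haveI : IsProper (A.left ↘ Spec (CommRingCat.of k)) := inferInstanceAs (IsProper A.hom)
  rw [FGA.intNum, Finset.powerset_univ, Int.cast_sum]
  refine Finset.sum_congr rfl fun I _ => ?_
  push_cast
  congr 2
  obtain ⟨h, e⟩ := exists_clA_tensorList M hM (I.sort (· ≤ ·))
  have e' : clA (HilbPolyLib.isInvertible_tensor h (isInvertible_one A.left)) = ∑ i ∈ I, clA (hM i) := by
    rw [clA_tensor h (isInvertible_one A.left), clA_one, add_zero, e, ← List.sum_toFinset _ (Finset.sort_nodup _ _), Finset.sort_toFinset]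
  rw [← e', chi_clA, chiMod, HilbPolyLib.eulerCharLE_eq (k := k) hg.le]

include hg in
/-- The trace formula, in the classes. -/
theorem trace_coeff (α : A ⟶ A) [IsMonHom α] (l : ℕ) [Fact l.Prime] (Ω : Type u) [Field Ω]
    [IsAlgClosed Ω] [Algebra k Ω] (hlΩ : (l : Ω) ≠ 0) [Module.Free ℤ_[l] (AbDual.TateMod A l (SGA7.pt (K := k) Ω))]
    [Module.Finite ℤ_[l] (AbDual.TateMod A l (SGA7.pt (K := k) Ω))] :
    ∃ t : ℤ, LinearMap.trace ℤ_[l] _ (AbDual.tateMapₗ (l := l) (T := SGA7.pt (K := k) Ω) α) = (t : ℤ_[l]) ∧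
      ∀ Q : MvPolynomial (Fin 3) ℚ, Q.totalDegree ≤ g →
        (∀ z : Fin 3 → ℤ, (chi A (∑ i, z i • ![P hL α, P hL (α * 𝟙 A) - P hL α - clA hL, clA hL] i) : ℚ) =
          MvPolynomial.eval (fun i => (z i : ℚ)) Q) →
        (g = 0 → t = 0) ∧ ∀ g', g = g' + 1 → (t : ℚ) * Q.coeff (pure' g) = Q.coeff (mix g') := by
  obtain ⟨p, hm, hd, hp, hchar⟩ := exists_charpoly_bc Ω A hg (EndAV.End.of α)
  have htr : LinearMap.trace ℤ_[l] _ (AbDual.tateMapₗ (l := l) (T := SGA7.pt (K := k) Ω) α) =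
      ((-p.nextCoeff : ℤ) : ℤ_[l]) := by
    let b := Module.Free.chooseBasis ℤ_[l] (AbDual.TateMod A l (SGA7.pt (K := k) Ω))
    have hc : (AbDual.tateMapₗ (l := l) (T := SGA7.pt (K := k) Ω) α).charpoly = p.map (Int.castRingHom ℤ_[l]) :=
      hchar l hlΩ
    rw [LinearMap.trace_eq_matrix_trace ℤ_[l] b, Matrix.trace_eq_neg_charpoly_nextCoeff, LinearMap.charpoly_toMatrix, hc,
      Polynomial.nextCoeff_map (RingHom.injective_int _), Int.cast_neg]
    rfl
  refine ⟨_, htr, fun Q hQ hQ' => ⟨fun h0 => ?_, fun g' hg' => ?_⟩⟩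
  · subst h0
    rw [Polynomial.nextCoeff, if_pos (by simpa using hd), neg_zero]
  subst hg'
  let T := MvPolynomial.homogeneousComponent (g' + 1) Q
  have htop : ∀ z : Fin 3 → ℤ, top A (g' + 1) (∑ i, z i • ![P hL α, P hL (α * 𝟙 A) - P hL α - clA hL, clA hL] i) =
      MvPolynomial.eval (fun i => (z i : ℚ)) T := fun z => by
    rw [← coeff_aeval_line]
    refine top_eq (natDegree_aeval_line Q _ hQ) fun m => ?_
    have := hQ' fun i => (m : ℤ) * z i
    rw [Finset.smul_sum]
    simp only [← natCast_zsmul _ m, ← mul_smul] at this ⊢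
    rw [this, eval_aeval_line]
    congr 2
    funext i
    push_cast
    ring
  have hTc : ∀ u : Fin 3 →₀ ℕ, u.degree = g' + 1 → T.coeff u = Q.coeff u := fun u hu => by
    show (MvPolynomial.homogeneousComponent (g' + 1) Q).coeff u = _
    rw [MvPolynomial.coeff_homogeneousComponent, if_pos hu]
  have hH : top A (g' + 1) (clA hL) = Q.coeff (pure' (g' + 1)) := by
    have h := htop ![0, 0, 1]
    simp only [Fin.sum_univ_three, Matrix.cons_val_zero, Matrix.cons_val_one, Matrix.cons_val, zero_zsmul, one_zsmul,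
      zero_add] at h
    rw [h, ← hTc _ (by rw [degree_three]; simp [pure'])]
    have hT : T.IsHomogeneous (g' + 1) := MvPolynomial.homogeneousComponent_isHomogeneous _ _
    rw [show (fun i => ((![0, 0, 1] : Fin 3 → ℤ) i : ℚ)) = ![(0 : ℚ), 0, 1] from funext fun i => by fin_cases i <;> simp]
    conv_lhs => rw [T.as_sum, map_sum]
    rw [Finset.sum_eq_single (pure' (g' + 1))]
    · simp [eval_monomial_three, pure']
    · intro u hu hne
      have hdu : u 0 + u 1 + u 2 = g' + 1 := by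
        rw [← degree_three, Finsupp.degree_eq_weight_one]
        exact hT (MvPolynomial.mem_support_iff.1 hu)
      rw [eval_monomial_three]
      by_cases h0 : u 0 = 0
      swap
      · simp [zero_pow h0]
      by_cases h1 : u 1 = 0
      swap
      · simp [zero_pow h1]
      exact absurd ((eq_pure_iff u _).2 ⟨h0, h1, by omega⟩) hne
    · intro h
      simp [MvPolynomial.notMem_support_iff.1 h]
  let U : Polynomial ℚ := MvPolynomial.aeval ![(1 : Polynomial ℚ), Polynomial.X, Polynomial.X ^ 2] T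
  let V : Polynomial ℚ := (p.map (Int.castRingHom ℚ)).comp (-Polynomial.X) * Polynomial.C (Q.coeff (pure' (g' + 1)))
  have hU : ∀ y : ℚ, U.eval y = MvPolynomial.eval ![1, y, y ^ 2] T := fun y => by
    show Polynomial.evalRingHom y (MvPolynomial.aeval _ T) = _
    rw [MvPolynomial.aeval_def, MvPolynomial.eval₂_comp_left,
      show (Polynomial.evalRingHom y).comp (algebraMap ℚ (Polynomial ℚ)) = RingHom.id ℚ from
        RingHom.ext fun q => by simp, MvPolynomial.eval₂_id]
    congr 2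
    funext i
    fin_cases i <;> simp
  have hroot : Set.Finite {x : ℚ | (p.map (Int.castRingHom ℚ)).IsRoot x} :=
    Polynomial.finite_setOf_isRoot (hm.map _).ne_zero
  have hUV : U = V := by
    have hS : Set.Infinite {n : ℕ | (p.map (Int.castRingHom ℚ)).eval (-(n : ℚ)) ≠ 0} :=
      (hroot.preimage (f := fun n : ℕ => -(n : ℚ)) fun a _ b _ h => Nat.cast_injective (neg_injective h)).infinite_compl
    refine Polynomial.eq_of_infinite_eval_eq _ _ ((hS.image fun a _ b _ h => Nat.cast_injective (R := ℚ) h).mono ?_)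
    rintro _ ⟨n, hn, rfl⟩
    show U.eval (n : ℚ) = V.eval (n : ℚ)
    let ψn : EndAV.End A := EndAV.End.of α + (n : EndAV.End A)
    have hψn : EndAV.Hom.toHom ψn = α * 𝟙 A ^ n := by
      show EndAV.End.toHom (EndAV.End.of α + (n : EndAV.End A)) = _
      rw [EndAV.End.toHom_add, EndAV.End.toHom_natCast]; rfl
    obtain ⟨hfin, hnf⟩ := finite_cases_bc Ω A hg ψn hψn
    have hdeg : ndeg (g' + 1) (endBc Ω A ψn) = (p.map (Int.castRingHom ℚ)).eval (-(n : ℚ)) := by
      have h := hp.2.2 (-(n : ℤ))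
      push_cast at h
      rw [h]
      congr 1
      simp only [ψn, map_add, map_natCast, Int.cast_neg, Int.cast_natCast, sub_neg_eq_add]
    by_cases hf : IsFinite (α * 𝟙 A ^ n).left
    · haveI := hf
      haveI : Flat (α * 𝟙 A ^ n).left := by
        have hm' : IsMonHom (α * 𝟙 A ^ n) := hψn ▸ EndAV.Hom.isMonHom_toHom ψn
        haveI := hm'
        exact (flat_of_isFinite (α * 𝟙 A ^ n) hg hg).1
      have h := (top_pullA (α * 𝟙 A ^ n) hg hg (c := clA hL) ⟨_, hL, rfl⟩).2
      rw [hfin hf, hdeg, hH] at h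
      have h' := (top_line hg hL α n).symm.trans h
      have ht := htop ![1, n, (n : ℤ) * n]
      simp only [Fin.sum_univ_three, Matrix.cons_val_zero, Matrix.cons_val_one, Matrix.cons_val, one_zsmul] at ht
      rw [ht] at h'
      simp only [V, Polynomial.eval_mul, Polynomial.eval_comp, Polynomial.eval_neg, Polynomial.eval_X, Polynomial.eval_C, hU]
      rw [← h']
      congr 2
      funext i
      fin_cases i <;> simp [sq]
    · exact absurd (hdeg.symm.trans (hnf hf)) hn
  have hc := congrArg (fun q => Polynomial.coeff q (2 * g' + 1)) hUV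
  simp only [U, V] at hc
  rw [coeff_curve g' T (MvPolynomial.homogeneousComponent_isHomogeneous _ _), Polynomial.coeff_mul_C,
    hTc _ (by rw [degree_three]; simp [mix]; ring)] at hc
  rw [show -(Polynomial.X : Polynomial ℚ) = Polynomial.C (-1) * Polynomial.X by simp, Polynomial.comp_C_mul_X_coeff,
    Polynomial.coeff_map] at hc
  rw [Polynomial.nextCoeff, if_neg (by omega), show p.natDegree - 1 = 2 * g' + 1 by omega, hc]
  simp [pow_succ, pow_mul]

include hg hL in
/-- The trace formula. -/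
theorem trace_mul_intNum (α : A ⟶ A) [IsMonHom α] (Linv : A.left.Modules)
    (hinv : Nonempty (CohB1.tensorMod L Linv ≅ Coh.structureModule A.left)) (l : ℕ) [Fact l.Prime] (Ω : Type u) [Field Ω]
    [IsAlgClosed Ω] [Algebra k Ω] (hlΩ : (l : Ω) ≠ 0) [Module.Free ℤ_[l] (AbDual.TateMod A l (SGA7.pt (K := k) Ω))]
    [Module.Finite ℤ_[l] (AbDual.TateMod A l (SGA7.pt (K := k) Ω))] :
    LinearMap.trace ℤ_[l] _ (AbDual.tateMapₗ (l := l) (T := SGA7.pt (K := k) Ω) α) *
      (@FGA.intNum k _ A.left ⟨A.hom⟩ g g (fun _ : Fin g => Linv) (Coh.structureModule A.left) : ℤ_[l]) =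
    (g : ℤ_[l]) * (@FGA.intNum k _ A.left ⟨A.hom⟩ g g
      (fun i : Fin g => if (i : ℕ) = 0 then
        CohB1.tensorMod ((Scheme.Modules.pullback (α * 𝟙 A).left).obj Linv)
          (CohB1.tensorMod ((Scheme.Modules.pullback α.left).obj L) L)
        else Linv) (Coh.structureModule A.left) : ℤ_[l]) := by
  obtain ⟨t, ht, hkey⟩ := trace_coeff hg hL α l Ω hlΩ
  rw [ht]
  have hLi : PicF.IsInvertible Linv := CohCmpLib.isInvertible_of_inverse' hL hinv.some
  have hcl : clA hLi = -clA hL := by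
    rw [eq_neg_iff_add_eq_zero, add_comm, ← clA_tensor hL hLi, ← clA_one, clA_eq_iff]
    exact hinv
  have hx : ∀ i, (![P hL α, P hL (α * 𝟙 A) - P hL α - clA hL, clA hL] i) ∈ clRange A := fun i => by
    have hm : clA hL ∈ clRange A := ⟨_, hL, rfl⟩
    fin_cases i
    · exact P_mem hL α
    · exact sub_mem (sub_mem (P_mem hL _) (P_mem hL _)) hm
    · exact hm
  obtain ⟨Q, hQ, hQ'⟩ := exists_chiPoly hg hx
  obtain ⟨h0, h1⟩ := hkey Q hQ hQ'
  rcases Nat.eq_zero_or_pos g with rfl | hpos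
  · rw [h0 rfl]; simp
  obtain ⟨n, rfl⟩ := Nat.exists_eq_add_of_le' hpos
  have hH : ∀ c : ℕ, (chi A (c • -clA hL) : ℚ) = MvPolynomial.eval ![0, 0, -(c : ℚ)] Q := fun c => by
    have := hQ' ![0, 0, -(c : ℤ)]
    simp only [Fin.sum_univ_three, Matrix.cons_val_zero, Matrix.cons_val_one, Matrix.cons_val, zero_zsmul, zero_add,
      neg_zsmul, natCast_zsmul] at this
    rw [smul_neg, this]
    congr 2
    funext i
    fin_cases i <;> simp
  have hX : ∀ c : ℕ, (chi A (-(P hL (α * 𝟙 A) - P hL α - clA hL) + c • -clA hL) : ℚ) =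
      MvPolynomial.eval ![0, -1, -(c : ℚ)] Q := fun c => by
    have := hQ' ![0, -1, -(c : ℤ)]
    simp only [Fin.sum_univ_three, Matrix.cons_val_zero, Matrix.cons_val_one, Matrix.cons_val, zero_zsmul, zero_add,
      neg_zsmul, one_zsmul, natCast_zsmul] at this
    rw [smul_neg, this]
    congr 2
    funext i
    fin_cases i <;> simp
  have hA0 : ((@FGA.intNum k _ A.left ⟨A.hom⟩ (n + 1) (n + 1) (fun _ : Fin (n + 1) => Linv)
      (Coh.structureModule A.left) : ℤ) : ℚ) = ((n + 1)! : ℚ) * Q.coeff (pure' (n + 1)) := by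
    rw [intNum_eq_sum hg _ fun _ => hLi, ← sum_pure (n + 1) Q hQ]
    simp only [hcl, Finset.sum_const, hH]
    rw [Finset.sum_powerset_apply_card (fun c => (-1 : ℚ) ^ c * MvPolynomial.eval ![0, 0, -(c : ℚ)] Q), Finset.card_univ,
      Fintype.card_fin]
    simp [nsmul_eq_mul]
  let M : Fin (n + 1) → A.left.Modules := fun i => if (i : ℕ) = 0 then
      CohB1.tensorMod ((Scheme.Modules.pullback (α * 𝟙 A).left).obj Linv)
        (CohB1.tensorMod ((Scheme.Modules.pullback α.left).obj L) L)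
      else Linv
  have hM0 : PicF.IsInvertible (CohB1.tensorMod ((Scheme.Modules.pullback (α * 𝟙 A).left).obj Linv)
      (CohB1.tensorMod ((Scheme.Modules.pullback α.left).obj L) L)) :=
    HilbPolyLib.isInvertible_tensor (AmpleDevLib.isInvertible_pb _ hLi)
      (HilbPolyLib.isInvertible_tensor (AmpleDevLib.isInvertible_pb _ hL) hL)
  have hM : ∀ i, PicF.IsInvertible (M i) := fun i => by
    simp only [M]; split
    · exact hM0
    · exact hLi
  have hM' : ∀ i, clA (hM i) = if i = 0 then -(P hL (α * 𝟙 A) - P hL α - clA hL) else -clA hL := fun i => by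
    by_cases hi : i = 0
    · rw [if_pos hi, (clA_eq_iff (hM i) hM0).2 ⟨eqToIso (if_pos (by rw [hi]; rfl))⟩,
        clA_tensor (AmpleDevLib.isInvertible_pb _ hLi) (HilbPolyLib.isInvertible_tensor (AmpleDevLib.isInvertible_pb _ hL) hL),
        clA_tensor (AmpleDevLib.isInvertible_pb _ hL) hL, ← pullA_clA _ hLi, hcl, map_neg, ← P_eq hL]
      show -P hL (α * 𝟙 A) + _ = _
      abel
    · rw [if_neg hi, (clA_eq_iff (hM i) hLi).2 ⟨eqToIso (if_neg fun h => hi (Fin.ext h))⟩, hcl]
  have hA1 : ((@FGA.intNum k _ A.left ⟨A.hom⟩ (n + 1) (n + 1) M (Coh.structureModule A.left) : ℤ) : ℚ) =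
      (n ! : ℚ) * Q.coeff (mix n) := by
    rw [intNum_eq_sum hg M hM, ← sum_mixed n Q hQ]
    simp only [hM']
    have hins : (Finset.univ : Finset (Fin (n + 1))) = insert 0 (Finset.univ.erase 0) :=
      (Finset.insert_erase (Finset.mem_univ 0)).symm
    rw [hins, Finset.sum_powerset_insert (Finset.notMem_erase _ _)]
    have hc : ∀ I ∈ (Finset.univ.erase (0 : Fin (n + 1))).powerset, (0 : Fin (n + 1)) ∉ I := fun I hI h =>
      Finset.notMem_erase 0 _ (Finset.mem_powerset.1 hI h)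
    rw [← Finset.sum_add_distrib, Finset.sum_congr rfl (g := fun I => (-1 : ℚ) ^ I.card *
      (MvPolynomial.eval ![0, 0, -(I.card : ℚ)] Q - MvPolynomial.eval ![0, -1, -(I.card : ℚ)] Q)) fun I hI => ?_]
    · rw [Finset.sum_powerset_apply_card (fun c => (-1 : ℚ) ^ c *
          (MvPolynomial.eval ![0, 0, -(c : ℚ)] Q - MvPolynomial.eval ![0, -1, -(c : ℚ)] Q)),
        Finset.card_erase_of_mem (Finset.mem_univ _), Finset.card_univ, Fintype.card_fin]
      simp [nsmul_eq_mul]
    · have hI0 := hc I hI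
      have hs : ∑ i ∈ I, (if i = 0 then -(P hL (α * 𝟙 A) - P hL α - clA hL) else -clA hL) = I.card • -clA hL :=
        (Finset.sum_congr rfl fun i hi => if_neg fun h => hI0 (by rw [← h]; exact hi)).trans (Finset.sum_const _)
      rw [Finset.sum_insert hI0, if_pos rfl, hs, Finset.card_insert_of_notMem hI0, hH, hX, pow_succ]
      ring
  have hgoal : t * (@FGA.intNum k _ A.left ⟨A.hom⟩ (n + 1) (n + 1) (fun _ : Fin (n + 1) => Linv) (Coh.structureModule A.left)) =
      ((n + 1 : ℕ) : ℤ) * (@FGA.intNum k _ A.left ⟨A.hom⟩ (n + 1) (n + 1) M (Coh.structureModule A.left)) := by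
    apply Int.cast_injective (α := ℚ)
    push_cast
    rw [hA0, hA1, ← h1 n rfl, Nat.factorial_succ]
    push_cast
    ring
  have := congrArg (Int.cast (R := ℤ_[l])) hgoal
  push_cast at this ⊢
  exact this

end TraceIntLib
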