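import Mathlib

/-!
# Alternating sums of polynomials and homogeneous polynomials along lines
-/

set_option autoImplicit false

open scoped Nat fwdDiff

namespace TraceIntLib

open Finset

/-- The binomial alternating sum of powers. -/
theorem sum_alt_pow {n b : ℕ} (hb : b ≤ n) :
    ∑ j ∈ range (n + 1), (n.choose j : ℚ) * ((-1) ^ j * (-(j : ℚ)) ^ b) = if b = n then (n ! : ℚ) else 0 := by
  have e : ∑ j ∈ range (n + 1), (n.choose j : ℚ) * ((-1) ^ j * (-(j : ℚ)) ^ b) =
      (-1) ^ (n + b) * ((fwdDiff (1 : ℚ))^[n] (fun r : ℚ => r ^ b)) 0 := by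
    rw [fwdDiff_iter_eq_sum_shift, mul_sum]
    refine sum_congr rfl fun j hj => ?_
    simp only [zero_add, zsmul_eq_mul, nsmul_eq_mul, _root_.mul_one]
    rw [neg_pow (j : ℚ)]
    have hs : (-1 : ℚ) ^ (n + b) * (-1) ^ (n - j) = (-1) ^ j * (-1) ^ b := by
      rw [← pow_add, ← pow_add, show n + b + (n - j) = j + b + 2 * (n - j) by have := mem_range.1 hj; omega,
        pow_add _ (j + b), pow_mul]
      norm_num
    push_cast
    linear_combination -((n.choose j : ℚ) * (j : ℚ) ^ b) * hs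
  rw [e]
  split
  · next h =>
    subst h
    rw [fwdDiff_iter_eq_factorial, ← two_mul, pow_mul]
    simp
  · next h =>
    rw [fwdDiff_iter_pow_eq_zero_of_lt (lt_of_le_of_ne hb h)]
    simp

theorem eval_monomial_three (u : Fin 3 →₀ ℕ) (c x y z : ℚ) :
    MvPolynomial.eval ![x, y, z] (MvPolynomial.monomial u c) = c * (x ^ u 0 * y ^ u 1 * z ^ u 2) := by
  rw [MvPolynomial.eval_monomial, Finsupp.prod_fintype _ _ (fun i => pow_zero _), Fin.prod_univ_three]
  simp

theorem degree_three (u : Fin 3 →₀ ℕ) : u.degree = u 0 + u 1 + u 2 := by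
  rw [Finsupp.degree_eq_sum, Fin.sum_univ_three]

/-- The index `(0, 1, n)`. -/
noncomputable def mix (n : ℕ) : Fin 3 →₀ ℕ := Finsupp.equivFunOnFinite.symm ![0, 1, n]

/-- The index `(0, 0, n)`. -/
noncomputable def pure' (n : ℕ) : Fin 3 →₀ ℕ := Finsupp.equivFunOnFinite.symm ![0, 0, n]

theorem eq_mix_iff (u : Fin 3 →₀ ℕ) (n : ℕ) : u = mix n ↔ u 0 = 0 ∧ u 1 = 1 ∧ u 2 = n := by
  refine ⟨by rintro rfl; simp [mix], fun ⟨h0, h1, h2⟩ => Finsupp.ext fun i => ?_⟩
  fin_cases i <;> simp [mix, h0, h1, h2]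

theorem eq_pure_iff (u : Fin 3 →₀ ℕ) (n : ℕ) : u = pure' n ↔ u 0 = 0 ∧ u 1 = 0 ∧ u 2 = n := by
  refine ⟨by rintro rfl; simp [pure'], fun ⟨h0, h1, h2⟩ => Finsupp.ext fun i => ?_⟩
  fin_cases i <;> simp [pure', h0, h1, h2]

/-- The mixed alternating sum extracts the mixed coefficient. -/
theorem sum_mixed (n : ℕ) (Q : MvPolynomial (Fin 3) ℚ) (hQ : Q.totalDegree ≤ n + 1) :
    ∑ j ∈ range (n + 1), (n.choose j : ℚ) * ((-1) ^ j *
      (MvPolynomial.eval ![0, 0, -(j : ℚ)] Q - MvPolynomial.eval ![0, -1, -(j : ℚ)] Q)) = (n ! : ℚ) * Q.coeff (mix n) := by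
  classical
  let L : MvPolynomial (Fin 3) ℚ → ℚ := fun Q => ∑ j ∈ range (n + 1), (n.choose j : ℚ) * ((-1) ^ j *
      (MvPolynomial.eval ![0, 0, -(j : ℚ)] Q - MvPolynomial.eval ![0, -1, -(j : ℚ)] Q))
  show L Q = _
  have hL : ∀ s : Finset (Fin 3 →₀ ℕ), L (∑ u ∈ s, MvPolynomial.monomial u (Q.coeff u)) =
      ∑ u ∈ s, L (MvPolynomial.monomial u (Q.coeff u)) := fun s => by
    simp only [L, map_sum, ← sum_sub_distrib, mul_sum]
    exact sum_comm
  conv_lhs => rw [Q.as_sum]
  rw [hL, sum_eq_single (mix n)]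
  · obtain ⟨h0, h1, h2⟩ := (eq_mix_iff (mix n) n).1 rfl
    simp only [L, eval_monomial_three, h0, h1, h2]
    have := sum_alt_pow (n := n) (b := n) le_rfl
    rw [if_pos rfl] at this
    rw [← this, sum_mul]
    refine sum_congr rfl fun j _ => ?_
    ring
  · intro u hu hne
    have hd : u 0 + u 1 + u 2 ≤ n + 1 := by
      rw [← degree_three, Finsupp.degree_eq_sum]
      refine le_trans ?_ hQ
      refine le_trans (le_of_eq ?_) (MvPolynomial.le_totalDegree hu)
      rw [Finsupp.sum_fintype _ _ (fun i => rfl)]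
    simp only [L, eval_monomial_three]
    by_cases h0 : u 0 = 0
    swap
    · simp [zero_pow h0]
    by_cases h1 : u 1 = 0
    · simp [h0, h1]
    have := sum_alt_pow (n := n) (b := u 2) (by omega)
    rw [if_neg (fun h2 => hne ((eq_mix_iff u n).2 ⟨h0, by omega, h2⟩))] at this
    simp only [h0, pow_zero, one_mul, zero_pow h1, zero_mul, zero_sub]
    refine Eq.trans ?_ ((congrArg (fun t => -(Q.coeff u * (-1) ^ u 1) * t) this).trans (mul_zero _))
    rw [mul_sum]
    refine sum_congr rfl fun j _ => ?_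
    ring
  · intro h
    simp [L, MvPolynomial.notMem_support_iff.1 h]

/-- The pure alternating sum extracts the pure coefficient. -/
theorem sum_pure (n : ℕ) (Q : MvPolynomial (Fin 3) ℚ) (hQ : Q.totalDegree ≤ n) :
    ∑ j ∈ range (n + 1), (n.choose j : ℚ) * ((-1) ^ j * MvPolynomial.eval ![0, 0, -(j : ℚ)] Q) =
      (n ! : ℚ) * Q.coeff (pure' n) := by
  classical
  let L : MvPolynomial (Fin 3) ℚ → ℚ := fun Q => ∑ j ∈ range (n + 1), (n.choose j : ℚ) * ((-1) ^ j *
      MvPolynomial.eval ![0, 0, -(j : ℚ)] Q)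
  show L Q = _
  have hL : ∀ s : Finset (Fin 3 →₀ ℕ), L (∑ u ∈ s, MvPolynomial.monomial u (Q.coeff u)) =
      ∑ u ∈ s, L (MvPolynomial.monomial u (Q.coeff u)) := fun s => by
    simp only [L, map_sum, mul_sum]
    exact sum_comm
  conv_lhs => rw [Q.as_sum]
  rw [hL, sum_eq_single (pure' n)]
  · obtain ⟨h0, h1, h2⟩ := (eq_pure_iff (pure' n) n).1 rfl
    simp only [L, eval_monomial_three, h0, h1, h2]
    have := sum_alt_pow (n := n) (b := n) le_rfl
    rw [if_pos rfl] at this
    rw [← this, sum_mul]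
    refine sum_congr rfl fun j _ => ?_
    ring
  · intro u hu hne
    have hd : u 0 + u 1 + u 2 ≤ n := by
      rw [← degree_three, Finsupp.degree_eq_sum]
      refine le_trans ?_ hQ
      refine le_trans (le_of_eq ?_) (MvPolynomial.le_totalDegree hu)
      rw [Finsupp.sum_fintype _ _ (fun i => rfl)]
    simp only [L, eval_monomial_three]
    by_cases h0 : u 0 = 0
    swap
    · simp [zero_pow h0]
    by_cases h1 : u 1 = 0
    swap
    · simp [zero_pow h1]
    have := sum_alt_pow (n := n) (b := u 2) (by omega)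
    rw [if_neg (fun h2 => hne ((eq_pure_iff u n).2 ⟨h0, h1, h2⟩))] at this
    simp only [h0, h1, pow_zero, one_mul]
    refine Eq.trans ?_ ((congrArg (fun t => Q.coeff u * t) this).trans (mul_zero _))
    rw [mul_sum]
    refine sum_congr rfl fun j _ => ?_
    ring
  · intro h
    simp [L, MvPolynomial.notMem_support_iff.1 h]

/-- The next-to-top coefficient along the curve `(1, X, X²)`. -/
theorem coeff_curve (g : ℕ) (T : MvPolynomial (Fin 3) ℚ) (hT : T.IsHomogeneous (g + 1)) :
    (MvPolynomial.aeval ![(1 : Polynomial ℚ), Polynomial.X, Polynomial.X ^ 2] T).coeff (2 * g + 1) =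
      T.coeff (mix g) := by
  classical
  conv_lhs => rw [T.as_sum]
  rw [map_sum, Polynomial.finsetSum_coeff, Finset.sum_eq_single (mix g)]
  · obtain ⟨h0, h1, h2⟩ := (eq_mix_iff (mix g) g).1 rfl
    rw [MvPolynomial.aeval_monomial, Finsupp.prod_fintype _ _ (fun i => pow_zero _), Fin.prod_univ_three]
    simp [h0, h1, h2, ← pow_mul, ← pow_succ', Polynomial.coeff_X_pow]
  · intro u hu hne
    have hd : u 0 + u 1 + u 2 = g + 1 := by
      rw [← degree_three, Finsupp.degree_eq_weight_one]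
      exact hT (MvPolynomial.mem_support_iff.1 hu)
    rw [MvPolynomial.aeval_monomial, Finsupp.prod_fintype _ _ (fun i => pow_zero _), Fin.prod_univ_three]
    simp only [Matrix.cons_val_zero, Matrix.cons_val_one, Matrix.cons_val, one_pow, one_mul, ← pow_mul, ← pow_add,
      Polynomial.algebraMap_eq, Polynomial.coeff_C_mul, Polynomial.coeff_X_pow]
    rw [if_neg, mul_zero]
    intro h
    exact hne ((eq_mix_iff u g).2 ⟨by omega, by omega, by omega⟩)
  · intro h
    simp [MvPolynomial.notMem_support_iff.1 h]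

/-- A homogeneous polynomial invariant under the anisotropic scaling `(4, 2)` is constant along the second axis. -/
theorem eval_eq_of_scaling (g : ℕ) (T : MvPolynomial (Fin 2) ℚ) (hT : T.IsHomogeneous g)
    (h : ∀ y : ℕ, MvPolynomial.eval ![4, 2 * (y : ℚ)] T = 4 ^ g * MvPolynomial.eval ![1, (y : ℚ)] T) :
    MvPolynomial.eval ![1, 1] T = MvPolynomial.eval ![1, 0] T := by
  let p : Polynomial ℚ := MvPolynomial.aeval ![(1 : Polynomial ℚ), Polynomial.X] T
  have hp : ∀ y : ℚ, p.eval y = MvPolynomial.eval ![1, y] T := fun y => by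
    show Polynomial.evalRingHom y (MvPolynomial.aeval _ T) = _
    rw [MvPolynomial.aeval_def, MvPolynomial.eval₂_comp_left,
      show (Polynomial.evalRingHom y).comp (algebraMap ℚ (Polynomial ℚ)) = RingHom.id ℚ from
        RingHom.ext fun q => by simp, MvPolynomial.eval₂_id]
    congr 2
    funext i
    fin_cases i <;> simp
  have hsc : p.comp (Polynomial.C (2⁻¹ : ℚ) * Polynomial.X) = p := by
    refine Polynomial.eq_of_infinite_eval_eq _ _ (Set.infinite_of_injective_forall_mem
      (f := fun n : ℕ => (n : ℚ)) Nat.cast_injective fun y => ?_)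
    show _ = _
    rw [Polynomial.eval_comp, hp, hp, Polynomial.eval_mul, Polynomial.eval_C, Polynomial.eval_X]
    have h2 := h y
    have h3 : MvPolynomial.eval ![4, 2 * (y : ℚ)] T = 4 ^ g * MvPolynomial.eval ![1, 2⁻¹ * (y : ℚ)] T := by
      have h5 : (fun i => (4 : ℚ) * ![1, 2⁻¹ * (y : ℚ)] i) = ![4, 2 * (y : ℚ)] := by
        funext i
        fin_cases i
        · simp
        · simp; ring
      rw [← h5]
      simp only [MvPolynomial.eval_eq, Finset.mul_sum]
      refine Finset.sum_congr rfl fun u hu => ?_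
      simp only [mul_pow, Finset.prod_mul_distrib, Finset.prod_pow_eq_pow_sum]
      rw [show ∑ i ∈ u.support, u i = g from (Finsupp.degree_apply u).symm.trans
        ((Finsupp.degree_eq_weight_one (R := ℕ)) ▸ hT (MvPolynomial.mem_support_iff.1 hu))]
      ring
    exact mul_left_cancel₀ (pow_ne_zero g (by norm_num : (4 : ℚ) ≠ 0)) (h3.symm.trans h2)
  have hc : ∀ j, 0 < j → p.coeff j = 0 := fun j hj => by
    have h4 := congrArg (fun q => Polynomial.coeff q j) hsc
    simp only [Polynomial.comp_C_mul_X_coeff] at h4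
    by_contra hne
    have h5 : (2⁻¹ : ℚ) ^ j = 1 := mul_left_cancel₀ hne (h4.trans (mul_one _).symm)
    rw [inv_pow, inv_eq_one] at h5
    exact absurd h5 (ne_of_gt (one_lt_pow₀ (by norm_num) hj.ne'))
  rw [← hp, ← hp, Polynomial.eq_C_of_natDegree_le_zero (Polynomial.natDegree_le_iff_coeff_eq_zero.2 fun j hj => hc j hj)]
  simp

end TraceIntLib
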